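import Cfsg.Agent.H633.SimpleGood
import Cfsg.Agent.H568.RowAlt
import Cfsg.Agent.H165.RV.Defs
import Cfsg.Agent.S0205

/-!
# TEAM RV: the rows without odd automorphisms centralising a Sylow `2`-subgroup (helper728)

* `nRow_one` : `NRow` for the alternating groups, the sporadic groups, the Tits group and the groups of Lie type in
  characteristic `2`;

`BRow` for these groups: `ROneB` (from S2527).
-/

set_option autoImplicit false

namespace Cfsg.Agent.H728.RV.R1

open Subgroup Cfsg Cfsg.Agent.H165.RV Cfsg.Agent.H633.Struct Cfsg.Agent.H633.SimpleGood Cfsg.Agent.H633.CentTwo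
open Cfsg.Agent

universe u

variable {S : Type u} [Group S]

theorem noOddAut_of_good (h : Good 2 S) : NoOddAut S := by
  intro P φ hφ hfix
  refine h P φ ?_ hfix
  intro h2
  obtain ⟨k, hk⟩ := hφ
  omega

/-- the four families -/
def FourFam (S : Type u) [Group S] : Prop :=
  IsAlternating S ∨ IsSporadicGroup S ∨ Lie.IsoTits S ∨ IsLieTypeChar 2 S

theorem good_alt [Finite S] [IsSimpleGroup S] (h : IsAlternating S) : Good 2 S := by
  have h2 : Fact (Nat.Prime 2) := ⟨Nat.prime_two⟩
  obtain ⟨n, hn, ⟨e⟩⟩ := h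
  rcases eq_or_ne n 5 with rfl | h5
  · exact fun R φ h1 h2 => S4613.result 2 (Omega.KFacts.charTwo_alt_five e) φ h1 R h2
  · have hct : CT S := by
      have hfin := Finite.of_equiv S e.toEquiv
      exact CT.congr e (CT.of_selfN fun T => H94.Syl2Sym.alt_selfNorm (by rw [Fintype.card_fin]; omega) T)
    refine good_of_ct hct ?_
    rcases eq_or_ne n 6 with rfl | h6
    · exact BpSpor.Inn.OddInn.congr e fun p hp hp2 => H568.autInner_alt6 hp hp2
    · exact BpSpor.Inn.OddInn.congr e (H505.OddInn.oddInn_alt hn h6)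

theorem good_one [Finite S] [IsSimpleGroup S] (h : FourFam S) : Good 2 S := by
  have h2 : Fact (Nat.Prime 2) := ⟨Nat.prime_two⟩
  rcases h with h | h | h | h
  · exact good_alt h
  · exact good_of_ct (spor h) (H505.OddInn.oddInn_sporadic h)
  · exact good_of_ct (tits h) (H505.OddInn.oddInn_tits h)
  · exact fun R φ h1 h2 => S4613.result 2 h φ h1 R h2

/-- no automorphism of odd order centralises a Sylow `2`-subgroup -/
theorem noOddAut [Finite S] [IsSimpleGroup S] (h : FourFam S) : NoOddAut S := noOddAut_of_good (good_one h)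

/-- a Hall `π`-subgroup, `2 ∈ π`, is not trivial -/
theorem ne_bot {π : Set ℕ} (h2 : 2 ∈ π) [Finite S] (hS : 2 ∣ Nat.card S) {H : Subgroup S} (hH : IsPiHall π H) :
    H ≠ ⊥ := by
  rintro rfl
  refine hH.2 2 Nat.prime_two h2 ?_
  rwa [index_bot]

theorem two_dvd' [Finite S] [IsSimpleGroup S] (hna : ¬ IsMulCommutative S) : 2 ∣ Nat.card S := by
  by_contra h
  have h1 : Odd (Nat.card S) := by
    rw [← Nat.not_even_iff_odd, even_iff_two_dvd]
    exact h
  have h2 : Group.IsSolvable S := S0205.result h1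
  exact hna ⟨⟨IsSimpleGroup.comm_iff_isSolvable.2 h2⟩⟩

/-- **`NRow`.** -/
theorem nRow_one {π : Set ℕ} (h2 : 2 ∈ π) [Finite S] [IsSimpleGroup S] (hna : ¬ IsMulCommutative S) (h : FourFam S) :
    NRow π S :=
  NRow.of_noOddAut (noOddAut h) fun _ hH => ne_bot h2 (two_dvd' hna) hH

end Cfsg.Agent.H728.RV.R1
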