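import Cfsg.Agent.S0799
import Cfsg.Agent.H491.KGV.DimTwo
import Cfsg.Agent.H947.Sy.Psl2A
import Cfsg.Agent.H165.RV.Defs

/-!
# TEAM RV: `p'`-subgroups of `PSL₂(q)` containing a fours group (helper728)

* `exists_two` : a `p'`-subgroup of order divisible by `4` has a nontrivial normal `2`-subgroup or is `A₅`.
-/

set_option autoImplicit false

namespace Cfsg.Agent.H728.RV

open Subgroup Cfsg Matrix Cfsg.Agent.H165.RV

section General

variable {S : Type*} [Group S]

/-- a nontrivial normal `2`-subgroup of `H` -/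
def HasTwo (H : Subgroup S) : Prop :=
  ∃ N : Subgroup S, N ≠ ⊥ ∧ N ≤ H ∧ IsPGroup 2 N ∧ ∀ h ∈ H, ∀ n ∈ N, h * n * h⁻¹ ∈ N

theorem HasTwo.nat [Finite S] {H : Subgroup S} (h : HasTwo H) : NAt H := by
  obtain ⟨N, h0, h1, h2, h3⟩ := h
  exact NAt.of_isPGroup h0 h1 h2 h3

theorem HasTwo.of_iso {H : Subgroup S} {K : Type*} [Group K] (e : H ≃* K)
    (h : ∃ N : Subgroup K, N ≠ ⊥ ∧ IsPGroup 2 N ∧ N.Normal) : HasTwo H := by
  obtain ⟨N, h0, h1, h2⟩ := h
  refine ⟨(N.map e.symm.toMonoidHom).map H.subtype, ?_, ?_, ?_, ?_⟩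
  · rw [Ne, Subgroup.map_eq_bot_iff_of_injective _ H.subtype_injective,
      Subgroup.map_eq_bot_iff_of_injective _ e.symm.injective]
    exact h0
  · rintro _ ⟨x, -, rfl⟩
    exact x.2
  · exact (h1.map _).map _
  · rintro g hg _ ⟨_, ⟨x, hx, rfl⟩, rfl⟩
    refine ⟨e.symm (e ⟨g, hg⟩ * x * (e ⟨g, hg⟩)⁻¹), ⟨_, h2.conj_mem x hx _, rfl⟩, ?_⟩
    simp

theorem HasTwo.of_comm [Finite S] {H : Subgroup S} (hc : ∀ a ∈ H, ∀ b ∈ H, a * b = b * a) (h2 : 2 ∣ Nat.card H) :
    HasTwo H := by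
  have : Fact (Nat.Prime 2) := ⟨Nat.prime_two⟩
  obtain ⟨x, hx⟩ := exists_prime_orderOf_dvd_card' 2 h2
  have hx' : orderOf (x : S) = 2 := by rw [← hx]; exact orderOf_coe x
  refine ⟨zpowers (x : S), ?_, ?_, ?_, ?_⟩
  · rw [Ne, zpowers_eq_bot]
    intro h
    rw [h, orderOf_one] at hx'
    norm_num at hx'
  · rw [zpowers_le]; exact x.2
  · exact IsPGroup.of_card (n := 1) (by rw [Nat.card_zpowers, hx', pow_one])
  · intro h hh n hn
    have h1 : n ∈ H := (zpowers_le.2 x.2) hn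
    rw [hc h hh n h1, mul_inv_cancel_right]
    exact hn

theorem dihedral_two {k : ℕ} (hk : k ≠ 0) (hk2 : 2 ∣ k) :
    ∃ N : Subgroup (DihedralGroup k), N ≠ ⊥ ∧ IsPGroup 2 N ∧ N.Normal := by
  obtain ⟨m, rfl⟩ := hk2
  have hm : m ≠ 0 := by rintro rfl; exact hk rfl
  have : NeZero (2 * m) := ⟨hk⟩
  have hz : ((m : ZMod (2 * m)) + (m : ZMod (2 * m))) = 0 := by
    rw [← Nat.cast_add, ← two_mul]
    exact ZMod.natCast_self _
  have hm0 : (m : ZMod (2 * m)) ≠ 0 := by
    rw [Ne, ZMod.natCast_eq_zero_iff]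
    intro h
    have := Nat.le_of_dvd (Nat.pos_of_ne_zero hm) h
    omega
  set z : DihedralGroup (2 * m) := DihedralGroup.r (m : ZMod (2 * m)) with hzd
  have hz1 : z ≠ 1 := by
    rw [hzd, DihedralGroup.one_def]
    intro h
    exact hm0 (DihedralGroup.r.inj h)
  have hz2 : z * z = 1 := by
    rw [hzd, DihedralGroup.r_mul_r, hz, DihedralGroup.one_def]
  have hc : ∀ g : DihedralGroup (2 * m), g * z * g⁻¹ = z := by
    intro g
    rw [mul_inv_eq_iff_eq_mul]
    cases g with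
    | r i => rw [hzd, DihedralGroup.r_mul_r, DihedralGroup.r_mul_r, add_comm]
    | sr i =>
      rw [hzd, DihedralGroup.sr_mul_r, DihedralGroup.r_mul_sr]
      congr 1
      rw [sub_eq_add_neg]
      congr 1
      rw [eq_neg_iff_add_eq_zero]
      exact hz
  have ho : orderOf z = 2 := orderOf_eq_prime (by rw [pow_two]; exact hz2) hz1
  refine ⟨zpowers z, ?_, ?_, ⟨?_⟩⟩
  · rw [Ne, zpowers_eq_bot]; exact hz1
  · exact IsPGroup.of_card (n := 1) (by rw [Nat.card_zpowers, ho, pow_one])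
  · intro n hn g
    obtain ⟨j, rfl⟩ := mem_zpowers_iff.1 hn
    refine mem_zpowers_iff.2 ⟨j, ?_⟩
    rw [← conj_zpow, hc g]

theorem alt4_two : ∃ N : Subgroup (alternatingGroup (Fin 4)), N ≠ ⊥ ∧ IsPGroup 2 N ∧ N.Normal := by
  have h4 : Nat.card (Fin 4) = 4 := by simp
  have h1 : (alternatingGroup.kleinFour (Fin 4)).Characteristic := alternatingGroup.characteristic_kleinFour h4
  have hk := alternatingGroup.kleinFour_isKleinFour (α := Fin 4) h4
  refine ⟨alternatingGroup.kleinFour (Fin 4), ?_, ?_, inferInstance⟩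
  · intro h
    have h2 := hk.card_four
    rw [h, card_bot] at h2
    norm_num at h2
  · exact IsPGroup.of_card (n := 2) (by rw [hk.card_four]; norm_num)

theorem perm4_two : ∃ N : Subgroup (Equiv.Perm (Fin 4)), N ≠ ⊥ ∧ IsPGroup 2 N ∧ N.Normal := by
  have h4 : Nat.card (Fin 4) = 4 := by simp
  have hk := alternatingGroup.kleinFour_isKleinFour (α := Fin 4) h4
  have h1 : (alternatingGroup.kleinFour (Fin 4)).Characteristic := alternatingGroup.characteristic_kleinFour h4
  refine ⟨(alternatingGroup.kleinFour (Fin 4)).map (alternatingGroup (Fin 4)).subtype, ?_, ?_, inferInstance⟩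
  · rw [Ne, Subgroup.map_eq_bot_iff_of_injective _ (alternatingGroup (Fin 4)).subtype_injective]
    intro h
    have h2 := hk.card_four
    rw [h, card_bot] at h2
    norm_num at h2
  · refine IsPGroup.map ?_ _
    exact IsPGroup.of_card (n := 2) (by rw [hk.card_four]; norm_num)

end General

variable {F : Type} [Field F] [Fintype F]

local notation "P2" => ProjectiveSpecialLinearGroup (Fin 2) F

/-- **`p'`-subgroups of order divisible by `4`.** -/
theorem exists_two {p : ℕ} [hp : Fact p.Prime] [CharP F p] (H : Subgroup P2) (h4 : 4 ∣ Nat.card H)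
    (hpH : ¬ p ∣ Nat.card H) : HasTwo H ∨ Nonempty (H ≃* alternatingGroup (Fin 5)) := by
  have h2 : 2 ∣ Nat.card H := (by norm_num : (2 : ℕ) ∣ 4).trans h4
  by_cases hs : Group.IsSolvable H
  · left
    rcases Cfsg.Agent.S0799.result (F := F) rfl p H with ⟨k, -, h | ⟨⟨e⟩⟩⟩ | ⟨P, K, hK, ⟨e⟩⟩ | ⟨⟨e⟩⟩ | ⟨⟨e⟩⟩ | ⟨⟨e⟩⟩ |
      ⟨K, _, _, m, hm, he⟩
    · have hc := h.1
      refine HasTwo.of_comm (fun a ha b hb => ?_) h2
      have := (hc.isMulCommutative).is_comm.comm (⟨a, ha⟩ : H) ⟨b, hb⟩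
      exact congrArg Subtype.val this
    · have hc : Nat.card H = 2 * k := by rw [Nat.card_congr e.toEquiv, DihedralGroup.nat_card]
      have hk : k ≠ 0 := by
        rintro rfl
        have := Nat.card_pos (α := H)
        omega
      refine HasTwo.of_iso e (dihedral_two hk ?_)
      rw [hc] at h4
      omega
    · refine HasTwo.of_comm (fun a ha b hb => ?_) h2
      obtain ⟨k, hk⟩ := H947.Sy.commutator_mem P (hK (e ⟨a, ha⟩).2) (hK (e ⟨b, hb⟩).2)
      have h1 : ((⟨a, ha⟩ : H) * ⟨b, hb⟩ * (⟨a, ha⟩ : H)⁻¹ * (⟨b, hb⟩ : H)⁻¹) ^ p ^ k = 1 := by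
        refine e.injective (Subtype.ext ?_)
        rw [map_pow, map_one, Subgroup.coe_pow, Subgroup.coe_one, ← hk]
        simp only [map_mul, map_inv, Subgroup.coe_mul, Subgroup.coe_inv]
      have h3 := Nat.eq_one_of_dvd_coprimes (((Nat.Prime.coprime_iff_not_dvd hp.out).2 hpH).pow_left k)
        (orderOf_dvd_of_pow_eq_one h1) (orderOf_dvd_natCard _)
      have h5 := orderOf_eq_one_iff.1 h3
      have h6 : a * b * a⁻¹ * b⁻¹ = 1 := congrArg Subtype.val h5
      calc a * b = (a * b * a⁻¹ * b⁻¹) * (b * a) := by group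
        _ = b * a := by rw [h6, one_mul]
    · exact HasTwo.of_iso e alt4_two
    · exact HasTwo.of_iso e perm4_two
    · exfalso
      exact ClassicalGeometry.PSL2Solvable.not_isSolvable_alternating_five
        (Group.isSolvable_of_surjective (f := e.toMonoidHom) e.surjective)
    · exfalso
      have hK : CharP K p := by
        obtain ⟨r, hr⟩ := CharP.exists K
        have hrp : r.Prime := CharP.char_is_prime K r
        obtain ⟨n, -, hn⟩ := FiniteField.card K r
        obtain ⟨l, -, hl⟩ := FiniteField.card F p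
        rw [hn, hl, ← pow_mul] at hm
        have h1 : p ∣ r ^ ((n : ℕ) * m) := by
          rw [hm]
          exact dvd_pow_self p l.2.ne'
        have h2 := (Nat.prime_dvd_prime_iff_eq hp.out hrp).1 (hp.out.dvd_of_dvd_pow h1)
        rw [h2]
        exact hr
      rcases he with ⟨⟨e⟩⟩ | ⟨⟨e⟩⟩
      · exact hpH (by rw [Nat.card_congr e.toEquiv]; exact H491.KGV.dvd_card_psl)
      · exact hpH (by rw [Nat.card_congr e.toEquiv]; exact H491.KGV.dvd_card_pgl)
  · exact Or.inr (H491.KGV.alt_five_of_psl H hs hpH)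

end Cfsg.Agent.H728.RV
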