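import Mathlib

/-!
# TEAM RV: at most two `A₅` over a given `A₄` in `PSL₂(q)` (helper728)

* `three` : coordinates;
* `three_sl` : in `SL₂(F)`.
-/

set_option autoImplicit false

namespace Cfsg.Agent.H728.RV

open Matrix

variable {F : Type*} [Field F]

theorem line (h2 : (2 : F) ≠ 0) {w1 w2 w3 d1 d2 d3 : F} (hw : w1 ^ 2 + w2 * w3 = -2) (h12 : d1 * w2 = d2 * w1)
    (h13 : d1 * w3 = d3 * w1) (h23 : d2 * w3 = d3 * w2) : ∃ s : F, d1 = s * w1 ∧ d2 = s * w2 ∧ d3 = s * w3 := by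
  have h4 : (4 : F) ≠ 0 := by
    have : (4 : F) = 2 * 2 := by norm_num
    rw [this]; exact mul_ne_zero h2 h2
  refine ⟨-(2 * d1 * w1 + d2 * w3 + d3 * w2) / 4, ?_, ?_, ?_⟩
  · field_simp
    linear_combination (2 * d1) * hw + (-w3) * h12 + (-w2) * h13
  · field_simp
    linear_combination (2 * d2) * hw + (2 * w1) * h12 + (-w2) * h23
  · field_simp
    linear_combination (2 * d3) * hw + (2 * w1) * h13 + w3 * h23

/-- **At most two solutions.** -/
theorem three (h2 : (2 : F) ≠ 0) {a b c e f g h : F} (hv : a * a + b * c = -1) (hB : e * h - f * g = 1)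
    (hB1 : e + h = -1) (hvB : (a * (e - h) + b * g + c * f) ^ 2 = 1) {x1 y1 z1 x2 y2 z2 x3 y3 z3 : F}
    (q1 : x1 ^ 2 + y1 * z1 = -1) (q2 : x2 ^ 2 + y2 * z2 = -1) (q3 : x3 ^ 2 + y3 * z3 = -1)
    (a1 : 2 * a * x1 + b * z1 + c * y1 = 1) (a2 : 2 * a * x2 + b * z2 + c * y2 = 1)
    (a3 : 2 * a * x3 + b * z3 + c * y3 = 1)
    (b1 : (e - h) * x1 + g * y1 + f * z1 = 0) (b2 : (e - h) * x2 + g * y2 + f * z2 = 0)
    (b3 : (e - h) * x3 + g * y3 + f * z3 = 0) :
    (x2 = x1 ∧ y2 = y1 ∧ z2 = z1) ∨ (x3 = x1 ∧ y3 = y1 ∧ z3 = z1) ∨ (x3 = x2 ∧ y3 = y2 ∧ z3 = z2) := by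
  obtain ⟨w1, hw1⟩ : ∃ w1, w1 = c * f - b * g := ⟨_, rfl⟩
  obtain ⟨w2, hw2⟩ : ∃ w2, w2 = b * (e - h) - 2 * a * f := ⟨_, rfl⟩
  obtain ⟨w3, hw3⟩ : ∃ w3, w3 = 2 * a * g - c * (e - h) := ⟨_, rfl⟩
  have hw : w1 ^ 2 + w2 * w3 = -2 := by
    have he : e = -1 - h := by linear_combination hB1
    subst he
    rw [hw1, hw2, hw3]
    linear_combination hvB - (4 * f * g + (1 + 2 * h) ^ 2) * hv - 4 * hB
  have key : ∀ x y z : F, 2 * a * x + b * z + c * y = 1 → (e - h) * x + g * y + f * z = 0 →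
      ∃ s : F, x - x1 = s * w1 ∧ y - y1 = s * w2 ∧ z - z1 = s * w3 := by
    intro x y z hA hB'
    refine line h2 hw ?_ ?_ ?_
    · rw [hw1, hw2]
      linear_combination (-f) * (hA - a1) + b * (hB' - b1)
    · rw [hw1, hw3]
      linear_combination g * (hA - a1) - c * (hB' - b1)
    · rw [hw2, hw3]
      linear_combination (-(e - h)) * (hA - a1) + (2 * a) * (hB' - b1)
  have key2 : ∀ x y z s : F, x ^ 2 + y * z = -1 → x - x1 = s * w1 → y - y1 = s * w2 → z - z1 = s * w3 →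
      s = 0 ∨ 2 * s = 2 * x1 * w1 + y1 * w3 + z1 * w2 := by
    intro x y z s hq h1 h2' h3
    have hx : x = x1 + s * w1 := by linear_combination h1
    have hy : y = y1 + s * w2 := by linear_combination h2'
    have hz : z = z1 + s * w3 := by linear_combination h3
    rw [hx, hy, hz] at hq
    have h5 : s * (2 * x1 * w1 + y1 * w3 + z1 * w2 - 2 * s) = 0 := by
      linear_combination hq - q1 - s ^ 2 * hw
    rcases mul_eq_zero.1 h5 with h6 | h6
    · exact Or.inl h6
    · right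
      linear_combination -h6
  obtain ⟨s, s1, s2, s3⟩ := key x2 y2 z2 a2 b2
  obtain ⟨r, r1, r2, r3⟩ := key x3 y3 z3 a3 b3
  rcases key2 x2 y2 z2 s q2 s1 s2 s3 with hs | hs
  · left
    rw [hs] at s1 s2 s3
    exact ⟨by linear_combination s1, by linear_combination s2, by linear_combination s3⟩
  · rcases key2 x3 y3 z3 r q3 r1 r2 r3 with hr | hr
    · right; left
      rw [hr] at r1 r2 r3
      exact ⟨by linear_combination r1, by linear_combination r2, by linear_combination r3⟩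
    · right; right
      have : r = s := by
        have h3 : 2 * (r - s) = 0 := by linear_combination hr - hs
        rcases mul_eq_zero.1 h3 with h4 | h4
        · exact absurd h4 h2
        · linear_combination h4
      rw [this] at r1 r2 r3
      exact ⟨by linear_combination r1 - s1, by linear_combination r2 - s2, by linear_combination r3 - s3⟩

theorem sq_eq_one_iff_of_side {x : F} (h : x ^ 2 = 1) : x = 1 ∨ x = -1 := by
  have : (x - 1) * (x + 1) = 0 := by linear_combination h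
  rcases mul_eq_zero.1 this with h | h
  · exact Or.inl (by linear_combination h)
  · exact Or.inr (by linear_combination h)

section SL

local notation "S2" => SpecialLinearGroup (Fin 2) F

theorem det_eq (y : S2) : y 0 0 * y 1 1 - y 0 1 * y 1 0 = 1 := by
  have := y.2
  rw [Matrix.det_fin_two] at this
  exact this

/-- the trace -/
def tr (y : S2) : F := y 0 0 + y 1 1

theorem tr_neg (y : S2) : tr (-y) = - tr y := by
  show (-y) 0 0 + (-y) 1 1 = -(y 0 0 + y 1 1)
  simp only [SpecialLinearGroup.coe_neg, Matrix.neg_apply]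
  ring

theorem mem_center_of {y : S2} (h01 : y 0 1 = 0) (h10 : y 1 0 = 0) (h : y 0 0 = y 1 1) :
    y ∈ Subgroup.center S2 := by
  rw [Matrix.SpecialLinearGroup.mem_center_iff]
  refine ⟨y 0 0, ?_, ?_⟩
  · have := det_eq y
    rw [h01, zero_mul, sub_zero, ← h] at this
    simp only [Fintype.card_fin]
    rw [pow_two]; exact this
  · ext i j
    fin_cases i <;> fin_cases j <;> simp [h01, h10, h]

theorem entries_of_mem {y : S2} (h : y ∈ Subgroup.center S2) : y 0 1 = 0 ∧ y 1 0 = 0 ∧ y 0 0 = y 1 1 := by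
  obtain ⟨c, -, hc⟩ := Matrix.SpecialLinearGroup.mem_center_iff.1 h
  have h1 := congrFun (congrFun hc 0) 1
  have h2 := congrFun (congrFun hc 1) 0
  have h3 := congrFun (congrFun hc 0) 0
  have h4 := congrFun (congrFun hc 1) 1
  simp at h1 h2 h3 h4
  exact ⟨h1.symm, h2.symm, by rw [← h3, ← h4]⟩

theorem mul_app (a b : S2) (i j : Fin 2) : (a * b) i j = a i 0 * b 0 j + a i 1 * b 1 j := by
  have h : ((a * b : S2) : Matrix (Fin 2) (Fin 2) F) = (a : Matrix (Fin 2) (Fin 2) F) * b := rfl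
  exact (congrFun (congrFun h i) j).trans (by rw [Matrix.mul_apply, Fin.sum_univ_two])

theorem tr_eq_zero {y : S2} (h : y * y ∈ Subgroup.center S2) (hn : y ∉ Subgroup.center S2) : tr y = 0 := by
  by_contra ht
  obtain ⟨h1, h2, h3⟩ := entries_of_mem h
  rw [mul_app] at h1 h2 h3
  rw [mul_app] at h3
  have e1 : y 0 1 * tr y = 0 := by unfold tr; linear_combination h1
  have e2 : y 1 0 * tr y = 0 := by unfold tr; linear_combination h2
  have e3 : (y 0 0 - y 1 1) * tr y = 0 := by unfold tr; linear_combination h3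
  refine hn (mem_center_of ?_ ?_ ?_)
  · exact (mul_eq_zero.1 e1).resolve_right ht
  · exact (mul_eq_zero.1 e2).resolve_right ht
  · exact sub_eq_zero.1 ((mul_eq_zero.1 e3).resolve_right ht)

theorem tr_sq_eq_one {y : S2} (h : y * y * y ∈ Subgroup.center S2) (hn : y ∉ Subgroup.center S2) : tr y ^ 2 = 1 := by
  by_contra ht
  have ht' : tr y ^ 2 - 1 ≠ 0 := sub_ne_zero.2 ht
  have hd := det_eq y
  obtain ⟨h1, h2, h3⟩ := entries_of_mem h
  simp only [mul_app] at h1 h2 h3
  have e1 : y 0 1 * (tr y ^ 2 - 1) = 0 := by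
    unfold tr; linear_combination h1 + y 0 1 * hd
  have e2 : y 1 0 * (tr y ^ 2 - 1) = 0 := by
    unfold tr; linear_combination h2 + y 1 0 * hd
  have e3 : (y 0 0 - y 1 1) * (tr y ^ 2 - 1) = 0 := by
    unfold tr; linear_combination h3 + (y 0 0 - y 1 1) * hd
  refine hn (mem_center_of ?_ ?_ ?_)
  · exact (mul_eq_zero.1 e1).resolve_right ht'
  · exact (mul_eq_zero.1 e2).resolve_right ht'
  · exact sub_eq_zero.1 ((mul_eq_zero.1 e3).resolve_right ht')

theorem sl_ext {a b : S2} (h1 : a 0 0 = b 0 0) (h2 : a 0 1 = b 0 1) (h3 : a 1 0 = b 1 0) (h4 : a 1 1 = b 1 1) :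
    a = b := by
  ext i j
  fin_cases i <;> fin_cases j
  · exact h1
  · exact h2
  · exact h3
  · exact h4

/-- the conditions on `t` (with `v`, `b` fixed), in `SL₂` -/
structure T1 (v b t : S2) : Prop where
  t0 : tr t = 0
  vt : tr (v * t) = 1
  tb : tr (t * b) = 0

theorem three_sl (h2 : (2 : F) ≠ 0) {v b t1 t2 t3 : S2} (hv : tr v = 0) (hb : tr b = -1) (hvb : tr (v * b) ^ 2 = 1)
    (h1 : T1 v b t1) (h2' : T1 v b t2) (h3 : T1 v b t3) : t2 = t1 ∨ t3 = t1 ∨ t3 = t2 := by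
  have hv' : v 1 1 = - v 0 0 := by unfold tr at hv; linear_combination hv
  have ht : ∀ {t : S2}, tr t = 0 → t 1 1 = - t 0 0 := by
    intro t h; unfold tr at h; linear_combination h
  have q : ∀ {t : S2}, T1 v b t → (t 0 0) ^ 2 + t 0 1 * t 1 0 = -1 := by
    intro t h
    have := det_eq t
    rw [ht h.t0] at this
    linear_combination -this
  have a : ∀ {t : S2}, T1 v b t → 2 * v 0 0 * t 0 0 + v 0 1 * t 1 0 + v 1 0 * t 0 1 = 1 := by
    intro t h
    have := h.vt
    unfold tr at this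
    rw [mul_app, mul_app, ht h.t0, hv'] at this
    linear_combination this
  have bb : ∀ {t : S2}, T1 v b t → (b 0 0 - b 1 1) * t 0 0 + b 1 0 * t 0 1 + b 0 1 * t 1 0 = 0 := by
    intro t h
    have := h.tb
    unfold tr at this
    rw [mul_app, mul_app, ht h.t0] at this
    linear_combination this
  have hvd := det_eq v
  rw [hv'] at hvd
  have hvb' : (v 0 0 * (b 0 0 - b 1 1) + v 0 1 * b 1 0 + v 1 0 * b 0 1) ^ 2 = 1 := by
    unfold tr at hvb
    rw [mul_app, mul_app, hv'] at hvb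
    linear_combination hvb
  have fin : ∀ {t t' : S2}, T1 v b t → T1 v b t' → t 0 0 = t' 0 0 ∧ t 0 1 = t' 0 1 ∧ t 1 0 = t' 1 0 → t = t' := by
    intro t t' h h' he
    refine sl_ext he.1 he.2.1 he.2.2 ?_
    rw [ht h.t0, ht h'.t0, he.1]
  rcases three h2 (a := v 0 0) (b := v 0 1) (c := v 1 0) (e := b 0 0) (f := b 0 1) (g := b 1 0) (h := b 1 1)
    (by linear_combination -hvd) (det_eq b) hb hvb' (q h1) (q h2') (q h3) (a h1) (a h2') (a h3) (bb h1) (bb h2')
    (bb h3) with h | h | h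
  · exact Or.inl (fin h2' h1 h)
  · exact Or.inr (Or.inl (fin h3 h1 h))
  · exact Or.inr (Or.inr (fin h3 h2' h))

end SL

section PSL

local notation "S2" => SpecialLinearGroup (Fin 2) F
local notation "P2" => ProjectiveSpecialLinearGroup (Fin 2) F

/-- `v`, `b` as in `A₄` -/
structure VB {G : Type*} [Group G] (v b : G) : Prop where
  v1 : v ≠ 1
  v2 : v * v = 1
  b1 : b ≠ 1
  b3 : b * b * b = 1
  vb1 : v * b ≠ 1
  vb3 : (v * b) * (v * b) * (v * b) = 1

/-- the conditions on the involution `t`: it inverts `b` and `vt` has order `3` -/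
structure TC {G : Type*} [Group G] (v b t : G) : Prop where
  t1 : t ≠ 1
  t2 : t * t = 1
  tb1 : t * b ≠ 1
  tb2 : (t * b) * (t * b) = 1
  vt1 : v * t ≠ 1
  vt3 : (v * t) * (v * t) * (v * t) = 1

theorem neg_one_mem : (-1 : S2) ∈ Subgroup.center S2 := by
  refine mem_center_of ?_ ?_ ?_ <;> simp

/-- **At most two involutions `t`.** -/
theorem three_psl (h2 : (2 : F) ≠ 0) {v b t1 t2 t3 : P2} (hvb : VB v b) (h1 : TC v b t1) (h2' : TC v b t2)
    (h3 : TC v b t3) : t2 = t1 ∨ t3 = t1 ∨ t3 = t2 := by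
  have e1 : ∀ y : S2, (QuotientGroup.mk y : P2) = 1 ↔ y ∈ Subgroup.center S2 := fun y => QuotientGroup.eq_one_iff y
  have eneg : ∀ y : S2, (QuotientGroup.mk (-y) : P2) = QuotientGroup.mk y := by
    intro y
    rw [QuotientGroup.eq]
    have : (-y)⁻¹ * y = -1 := by
      rw [inv_mul_eq_iff_eq_mul]; simp
    rw [this]
    exact neg_one_mem
  obtain ⟨v', rfl⟩ := QuotientGroup.mk_surjective v
  obtain ⟨b', hb'⟩ := QuotientGroup.mk_surjective b
  have hbtr : tr b' ^ 2 = 1 := by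
    refine tr_sq_eq_one ?_ ?_
    · rw [← e1]; exact (by rw [QuotientGroup.mk_mul, QuotientGroup.mk_mul, hb']; exact hvb.b3)
    · rw [← e1, hb']; exact hvb.b1
  -- choose the sign of `b`
  obtain ⟨b'', hb'', hbt⟩ : ∃ b'' : S2, (QuotientGroup.mk b'' : P2) = b ∧ tr b'' = -1 := by
    rcases sq_eq_one_iff_of_side hbtr with h | h
    · exact ⟨-b', by rw [eneg]; exact hb', by rw [tr_neg, h]⟩
    · exact ⟨b', hb', h⟩
  subst hb''
  have hv0 : tr v' = 0 := by
    refine tr_eq_zero ?_ ?_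
    · rw [← e1, QuotientGroup.mk_mul]; exact hvb.v2
    · rw [← e1]; exact hvb.v1
  have hvb0 : tr (v' * b'') ^ 2 = 1 := by
    refine tr_sq_eq_one ?_ ?_
    · rw [← e1]; simp only [QuotientGroup.mk_mul]; exact hvb.vb3
    · rw [← e1, QuotientGroup.mk_mul]; exact hvb.vb1
  have lift : ∀ t : P2, TC (QuotientGroup.mk v' : P2) (QuotientGroup.mk b'' : P2) t →
      ∃ t' : S2, (QuotientGroup.mk t' : P2) = t ∧ T1 v' b'' t' := by
    intro t ht
    obtain ⟨t', rfl⟩ := QuotientGroup.mk_surjective t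
    have h0 : tr t' = 0 := by
      refine tr_eq_zero ?_ ?_
      · rw [← e1, QuotientGroup.mk_mul]; exact ht.t2
      · rw [← e1]; exact ht.t1
    have hb0 : tr (t' * b'') = 0 := by
      refine tr_eq_zero ?_ ?_
      · rw [← e1]; simp only [QuotientGroup.mk_mul]; exact ht.tb2
      · rw [← e1, QuotientGroup.mk_mul]; exact ht.tb1
    have hv1 : tr (v' * t') ^ 2 = 1 := by
      refine tr_sq_eq_one ?_ ?_
      · rw [← e1]; simp only [QuotientGroup.mk_mul]; exact ht.vt3
      · rw [← e1, QuotientGroup.mk_mul]; exact ht.vt1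
    rcases sq_eq_one_iff_of_side hv1 with h | h
    · exact ⟨t', rfl, ⟨h0, h, hb0⟩⟩
    · refine ⟨-t', eneg t', ⟨by rw [tr_neg, h0, neg_zero], ?_, ?_⟩⟩
      · rw [mul_neg, tr_neg, h, neg_neg]
      · rw [neg_mul, tr_neg, hb0, neg_zero]
  obtain ⟨s1, rfl, k1⟩ := lift t1 h1
  obtain ⟨s2, rfl, k2⟩ := lift t2 h2'
  obtain ⟨s3, rfl, k3⟩ := lift t3 h3
  rcases three_sl h2 hv0 hbt hvb0 k1 k2 k3 with h | h | h
  · exact Or.inl (by rw [h])
  · exact Or.inr (Or.inl (by rw [h]))
  · exact Or.inr (Or.inr (by rw [h]))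

end PSL

end Cfsg.Agent.H728.RV
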