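import Cfsg.Agent.H728.RV.Psl2A
import Cfsg.Agent.H728.RV.Quat
import Cfsg.Agent.H95.PSLTwo

/-!
# TEAM RV: the `N`-row for `PSL₂(q)`, `p ∉ π` (helper728)

* `nat_psl2` : every `p'`-subgroup of odd index of `PSL₂(q)`, `q` odd, satisfies `NAt`.
-/

set_option autoImplicit false

namespace Cfsg.Agent.H728.RV

open Subgroup Cfsg Matrix Cfsg.Agent.H165.RV

section General

variable {S : Type*} [Group S]

theorem pow_odd_fix {φ : MulAut S} (hodd : Odd (orderOf φ)) {t : S} (h : φ (φ t) = t) : φ t = t := by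
  obtain ⟨k, hk⟩ := hodd
  have h1 : ∀ m : ℕ, (φ ^ (2 * m)) t = t := by
    intro m
    induction m with
    | zero => simp
    | succ m ih =>
      rw [show 2 * (m + 1) = 2 * m + 1 + 1 by ring, pow_succ, pow_succ, MulAut.mul_apply, MulAut.mul_apply, h, ih]
  have h2 : (φ ^ (2 * k + 1)) t = t := by
    rw [← hk, pow_orderOf_eq_one, MulAut.one_apply]
  rw [pow_succ', MulAut.mul_apply, h1] at h2
  exact h2

/-- an automorphism of odd order which centralises a self-centralising `2`-subgroup centralises its normaliser -/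
theorem fix_norm {P : Subgroup S} (hP : IsPGroup 2 P) (hC : centralizer (P : Set S) ≤ P) {φ : MulAut S}
    (hodd : Odd (orderOf φ)) (hfix : ∀ x ∈ P, φ x = x) {b : S} (hb : b ∈ normalizer (P : Set S)) : φ b = b := by
  have hc : φ b * b⁻¹ ∈ centralizer (P : Set S) := by
    rw [mem_centralizer_iff]
    intro x hx
    have h1 : b⁻¹ * x * b ∈ P := (mem_normalizer_iff''.1 hb x).1 hx
    have h2 := hfix _ h1
    rw [map_mul, map_mul, map_inv, hfix x hx] at h2
    have h3 : x * φ b = φ b * (b⁻¹ * x * b) := by rw [← h2]; group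
    rw [← mul_assoc, h3]; group
  obtain ⟨c, hc'⟩ : ∃ c, c = φ b * b⁻¹ := ⟨_, rfl⟩
  rw [← hc'] at hc
  have hcP := hC hc
  have hφ : φ b = c * b := by rw [hc']; group
  have hpow : ∀ k : ℕ, (φ ^ k) b = c ^ k * b := by
    intro k
    induction k with
    | zero => simp
    | succ k ih =>
      rw [pow_succ', MulAut.mul_apply, ih, map_mul, map_pow, hfix c hcP, hφ, ← mul_assoc, ← pow_succ]
  have h1 := hpow (orderOf φ)
  rw [pow_orderOf_eq_one, MulAut.one_apply] at h1
  have h2 : c ^ orderOf φ = 1 := by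
    have := h1.symm
    rwa [mul_eq_right] at this
  obtain ⟨m, hm⟩ := (IsPGroup.iff_orderOf.1 hP) ⟨c, hcP⟩
  rw [← Subgroup.orderOf_coe] at hm
  have h3 : orderOf c = 1 := by
    refine Nat.eq_one_of_dvd_coprimes ?_ (orderOf_dvd_of_pow_eq_one h2) (dvd_of_eq hm)
    exact (Nat.coprime_two_right.2 hodd).pow_right m
  rw [orderOf_eq_one_iff.1 h3, one_mul] at hφ
  exact hφ

theorem VB.map {G : Type*} [Group G] {v b : G} (h : VB v b) (f : G →* S) (hf : Function.Injective f) :
    VB (f v) (f b) := by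
  have e : ∀ x, f x = 1 ↔ x = 1 := fun x => map_eq_one_iff f hf
  refine ⟨?_, ?_, ?_, ?_, ?_, ?_⟩
  · rw [Ne, e]; exact h.v1
  · rw [← map_mul, e]; exact h.v2
  · rw [Ne, e]; exact h.b1
  · rw [← map_mul, ← map_mul, e]; exact h.b3
  · rw [← map_mul, Ne, e]; exact h.vb1
  · simp only [← map_mul]; rw [e]; exact h.vb3

theorem TC.map {G : Type*} [Group G] {v b t : G} (h : TC v b t) (f : G →* S) (hf : Function.Injective f) :
    TC (f v) (f b) (f t) := by
  have e : ∀ x, f x = 1 ↔ x = 1 := fun x => map_eq_one_iff f hf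
  refine ⟨?_, ?_, ?_, ?_, ?_, ?_⟩
  · rw [Ne, e]; exact h.t1
  · rw [← map_mul, e]; exact h.t2
  · rw [← map_mul, Ne, e]; exact h.tb1
  · simp only [← map_mul]; rw [e]; exact h.tb2
  · rw [← map_mul, Ne, e]; exact h.vt1
  · simp only [← map_mul]; rw [e]; exact h.vt3

/-- elements of `A₅` -/
def av : alternatingGroup (Fin 5) := ⟨c[0, 1] * c[2, 3], Equiv.Perm.mem_alternatingGroup.2 (by decide)⟩
def av' : alternatingGroup (Fin 5) := ⟨c[0, 2] * c[1, 3], Equiv.Perm.mem_alternatingGroup.2 (by decide)⟩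
def ab : alternatingGroup (Fin 5) := ⟨c[0, 1, 2], Equiv.Perm.mem_alternatingGroup.2 (by decide)⟩
def at' : alternatingGroup (Fin 5) := ⟨c[0, 1] * c[3, 4], Equiv.Perm.mem_alternatingGroup.2 (by decide)⟩

theorem vb_alt : VB av ab := ⟨by decide, by decide, by decide, by decide, by decide, by decide⟩

theorem tc_alt : TC av ab at' := ⟨by decide, by decide, by decide, by decide, by decide, by decide⟩

/-- the fours group -/
def aV : Subgroup (alternatingGroup (Fin 5)) where
  carrier := {x | x = 1 ∨ x = av ∨ x = av' ∨ x = av * av'}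
  one_mem' := Or.inl rfl
  mul_mem' := by
    rintro a b (rfl | rfl | rfl | rfl) (rfl | rfl | rfl | rfl) <;> decide
  inv_mem' := by
    rintro a (rfl | rfl | rfl | rfl) <;> decide

instance : DecidablePred (· ∈ aV) := fun x =>
  inferInstanceAs (Decidable (x = 1 ∨ x = av ∨ x = av' ∨ x = av * av'))

theorem card_aV : Nat.card aV = 4 := by
  rw [Nat.card_eq_fintype_card]
  decide

theorem ab_conj : ∀ x ∈ aV, ab * x * ab⁻¹ ∈ aV := by
  rintro x (rfl | rfl | rfl | rfl) <;> decide

theorem aV_comm : ∀ x ∈ aV, ∀ y ∈ aV, x * y = y * x := by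
  rintro x (rfl | rfl | rfl | rfl) y (rfl | rfl | rfl | rfl) <;> decide

theorem card_alt5 : Nat.card (alternatingGroup (Fin 5)) = 60 := by
  rw [nat_card_alternatingGroup]; simp; decide

theorem ord_ab : orderOf ab = 3 :=
  have : Fact (Nat.Prime 3) := ⟨Nat.prime_three⟩
  orderOf_eq_prime (by decide) (by decide)

set_option maxRecDepth 8000 in
theorem ord_vt : orderOf (av' * at') = 5 :=
  have : Fact (Nat.Prime 5) := ⟨Nat.prime_five⟩
  orderOf_eq_prime (by decide) (by decide)

theorem top_of_mem {K : Subgroup (alternatingGroup (Fin 5))} (hV : aV ≤ K) (hb : ab ∈ K) (ht : at' ∈ K) : K = ⊤ := by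
  have h4 : 4 ∣ Nat.card K := by rw [← card_aV]; exact card_dvd_of_le hV
  have h3 : 3 ∣ Nat.card K := by
    have : orderOf (⟨ab, hb⟩ : K) = 3 := by
      rw [← orderOf_coe]
      exact ord_ab
    exact (dvd_of_eq this.symm).trans (orderOf_dvd_natCard (⟨ab, hb⟩ : K))
  have h5 : 5 ∣ Nat.card K := by
    have hm : av' * at' ∈ K := mul_mem (hV (Or.inr (Or.inr (Or.inl rfl)))) ht
    have : orderOf (⟨av' * at', hm⟩ : K) = 5 := by
      rw [← orderOf_coe]
      exact ord_vt
    exact (dvd_of_eq this.symm).trans (orderOf_dvd_natCard (⟨av' * at', hm⟩ : K))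
  have h60 : Nat.card K ∣ 60 := by rw [← card_alt5]; exact card_subgroup_dvd_card K
  refine Subgroup.eq_top_of_card_eq K ?_
  rw [card_alt5]
  refine Nat.dvd_antisymm h60 ?_
  have h12 : 4 * 3 ∣ Nat.card K := Nat.Coprime.mul_dvd_of_dvd_of_dvd (by norm_num) h4 h3
  exact Nat.Coprime.mul_dvd_of_dvd_of_dvd (by norm_num) h12 h5

theorem fix_alt {f : alternatingGroup (Fin 5) →* S} (hf : Function.Injective f) {φ : MulAut S}
    (hodd : Odd (orderOf φ)) (hfix : ∀ x ∈ aV, φ (f x) = f x) (hb : φ (f ab) = f ab)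
    (h3 : ∀ t2 t3, TC (f av) (f ab) t2 → TC (f av) (f ab) t3 → t2 = f at' ∨ t3 = f at' ∨ t3 = t2) :
    ∀ x, φ (f x) = f x := by
  have hv : φ (f av) = f av := hfix av (Or.inr (Or.inl rfl))
  have k1 : TC (f av) (f ab) (φ (f at')) := by
    have := (tc_alt.map f hf).map (φ : S ≃* S).toMonoidHom (φ : S ≃* S).injective
    have e1 : (φ : S ≃* S).toMonoidHom (f av) = f av := hv
    have e2 : (φ : S ≃* S).toMonoidHom (f ab) = f ab := hb
    rw [e1, e2] at this
    exact this
  have k2 : TC (f av) (f ab) (φ (φ (f at'))) := by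
    have := k1.map (φ : S ≃* S).toMonoidHom (φ : S ≃* S).injective
    have e1 : (φ : S ≃* S).toMonoidHom (f av) = f av := hv
    have e2 : (φ : S ≃* S).toMonoidHom (f ab) = f ab := hb
    rw [e1, e2] at this
    exact this
  have ht : φ (f at') = f at' := by
    rcases h3 _ _ k1 k2 with h | h | h
    · exact h
    · exact pow_odd_fix hodd h
    · exact (φ : S ≃* S).injective h
  have hK : MonoidHom.eqLocus ((φ : S ≃* S).toMonoidHom.comp f) f = ⊤ := by
    refine top_of_mem ?_ ?_ ?_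
    · intro x hx
      exact hfix x hx
    · exact hb
    · exact ht
  intro x
  have hx : x ∈ MonoidHom.eqLocus ((φ : S ≃* S).toMonoidHom.comp f) f := by rw [hK]; trivial
  exact hx

/-- the embedding of `A₅` adapted to a Sylow `2`-subgroup -/
theorem exists_hom [Finite S] (P : Sylow 2 S) {H : Subgroup S} (hP : (P : Subgroup S) ≤ H)
    (e : H ≃* alternatingGroup (Fin 5)) : ∃ f : alternatingGroup (Fin 5) →* S, Function.Injective f ∧
      f.range = H ∧ aV.map f = P := by
  have : Fact (Nat.Prime 2) := ⟨Nat.prime_two⟩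
  obtain ⟨f0, hf0⟩ : ∃ f0 : alternatingGroup (Fin 5) →* S, f0 = H.subtype.comp e.symm.toMonoidHom := ⟨_, rfl⟩
  have hinj : Function.Injective f0 := by
    rw [hf0]
    exact H.subtype_injective.comp e.symm.injective
  have hr : f0.range = H := by
    rw [hf0, MonoidHom.range_comp, MonoidHom.range_eq_top.2 e.symm.surjective, ← MonoidHom.range_eq_map,
      Subgroup.range_subtype]
  have hcH : Nat.card H = 60 := by rw [Nat.card_congr e.toEquiv, card_alt5]
  have hV : aV.map f0 ≤ H := by rw [← hr]; exact map_le_range f0 aV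
  have hcV : Nat.card (aV.map f0) = 4 := by rw [card_map_of_injective hinj, card_aV]
  -- `V` lies in a conjugate of `P` inside `H`
  have hV2 : IsPGroup 2 ((aV.map f0).subgroupOf H) := by
    refine IsPGroup.of_card (n := 2) ?_
    rw [← card_map_of_injective H.subtype_injective, subgroupOf_map_subtype, inf_of_le_left hV, hcV]
    norm_num
  obtain ⟨Q, hQ⟩ := hV2.exists_le_sylow
  obtain ⟨h, hh⟩ := MulAction.exists_smul_eq H Q (P.subtype hP)
  have hle : ∀ x ∈ aV.map f0, (h : S) * x * (h : S)⁻¹ ∈ (P : Subgroup S) := by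
    intro x hx
    have h1 : (⟨x, hV hx⟩ : H) ∈ (Q : Subgroup H) := hQ hx
    have h2 : h * ⟨x, hV hx⟩ * h⁻¹ ∈ ((h • Q : Sylow 2 H) : Subgroup H) := by
      rw [Sylow.coe_subgroup_smul, Subgroup.mem_smul_pointwise_iff_exists]
      exact ⟨_, h1, by simp⟩
    rw [hh] at h2
    exact h2
  obtain ⟨f, hf⟩ : ∃ f : alternatingGroup (Fin 5) →* S, f = (MulAut.conj (h : S)).toMonoidHom.comp f0 := ⟨_, rfl⟩
  have hfx : ∀ x, f x = h * f0 x * (h : S)⁻¹ := by intro x; rw [hf]; simp
  refine ⟨f, ?_, ?_, ?_⟩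
  · rw [hf]
    exact (MulAut.conj (h : S)).injective.comp hinj
  · have h1 : f.range ≤ H := by
      rintro _ ⟨x, rfl⟩
      rw [hfx]
      have : f0 x ∈ H := by rw [← hr]; exact ⟨x, rfl⟩
      exact H.mul_mem (H.mul_mem h.2 this) (H.inv_mem h.2)
    refine Subgroup.eq_of_le_of_card_ge h1 ?_
    have : Nat.card f.range = Nat.card (alternatingGroup (Fin 5)) := by
      rw [MonoidHom.range_eq_map, card_map_of_injective ?_, card_top]
      rw [hf]
      exact (MulAut.conj (h : S)).injective.comp hinj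
    rw [this, card_alt5, hcH]
  · have h1 : aV.map f ≤ P := by
      rintro _ ⟨x, hx, rfl⟩
      rw [hfx]
      exact hle _ ⟨x, hx, rfl⟩
    refine Subgroup.eq_of_le_of_card_ge h1 ?_
    have h2 : Nat.card (aV.map f) = 4 := by
      rw [card_map_of_injective ?_, card_aV]
      rw [hf]
      exact (MulAut.conj (h : S)).injective.comp hinj
    rw [h2]
    obtain ⟨k, hk⟩ := P.isPGroup'.exists_card_eq
    have h3 : 2 ^ k ∣ 60 := by
      rw [← hk, ← hcH]
      exact card_dvd_of_le hP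
    rw [hk]
    have hk3 : k ≤ 2 := by
      by_contra hcon
      have : 2 ^ 3 ∣ 60 := (pow_dvd_pow 2 (by omega)).trans h3
      norm_num at this
    exact (Nat.pow_le_pow_right (by norm_num) hk3).trans (by norm_num)

end General

variable {F : Type} [Field F] [Fintype F]

local notation "P2" => ProjectiveSpecialLinearGroup (Fin 2) F

theorem mod_eight (hodd : Odd (Fintype.card F)) (h8 : ¬ 8 ∣ Nat.card P2) :
    Fintype.card F % 8 = 3 ∨ Fintype.card F % 8 = 5 := by
  have h1 := ClassicalGeometry.PSL2Basic.card_PSL2_odd F hodd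
  obtain ⟨q, hq⟩ : ∃ q, q = Fintype.card F := ⟨_, rfl⟩
  rw [← hq] at h1 hodd ⊢
  by_contra hcon
  have h2 : q % 8 = 1 ∨ q % 8 = 7 := by
    have := Nat.odd_iff.1 hodd
    omega
  apply h8
  have h16 : 16 ∣ q ^ 2 - 1 := by
    rcases h2 with h | h
    · obtain ⟨t, ht⟩ : ∃ t, q = 8 * t + 1 := ⟨q / 8, by omega⟩
      refine ⟨4 * t ^ 2 + t, ?_⟩
      have : q ^ 2 = 16 * (4 * t ^ 2 + t) + 1 := by rw [ht]; ring
      omega
    · obtain ⟨t, ht⟩ : ∃ t, q = 8 * t + 7 := ⟨q / 8, by omega⟩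
      refine ⟨4 * t ^ 2 + 7 * t + 3, ?_⟩
      have : q ^ 2 = 16 * (4 * t ^ 2 + 7 * t + 3) + 1 := by rw [ht]; ring
      omega
  have h3 : 2 * 8 ∣ 2 * Nat.card P2 := by
    rw [mul_comm 2 (Nat.card P2), h1]
    exact (dvd_of_eq (by norm_num : (2 * 8 : ℕ) = 16)).trans (h16.mul_left q)
  exact Nat.dvd_of_mul_dvd_mul_left (by norm_num) h3

/-- **The `N`-row for `PSL₂(q)`, `p ∤ |H|`.** -/
theorem nat_psl2 {p : ℕ} [hp : Fact p.Prime] [CharP F p] (hp2 : p ≠ 2) (H : Subgroup P2)
    (hodd : Odd H.index) (hpH : ¬ p ∣ Nat.card H) : NAt H := by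
  have h2p : Fact (Nat.Prime 2) := ⟨Nat.prime_two⟩
  have hF : Odd (Fintype.card F) := by
    obtain ⟨n, -, hn⟩ := FiniteField.card F p
    rw [hn]
    exact (hp.out.odd_of_ne_two hp2).pow
  have h20 : (2 : F) ≠ 0 := (ClassicalGeometry.PSL2Basic.two_ne_zero_iff_odd F).2 hF
  have hcard := ClassicalGeometry.PSL2Basic.card_PSL2_odd F hF
  have h4S : 4 ∣ Nat.card P2 := by
    have h8 : 8 ∣ Fintype.card F ^ 2 - 1 := Nat.eight_dvd_sq_sub_one_of_odd hF
    have h3 : 2 * 4 ∣ 2 * Nat.card P2 := by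
      rw [mul_comm 2 (Nat.card P2), hcard]
      exact (dvd_of_eq (by norm_num : (2 * 4 : ℕ) = 8)).trans (h8.mul_left _)
    exact Nat.dvd_of_mul_dvd_mul_left (by norm_num) h3
  have h4 : 4 ∣ Nat.card H := by
    rw [← H.card_mul_index] at h4S
    exact (Nat.Coprime.dvd_of_dvd_mul_right (by
      have : (4 : ℕ) = 2 ^ 2 := by norm_num
      rw [this]
      exact (Nat.coprime_two_left.2 hodd).pow_left 2) h4S)
  rcases exists_two H h4 hpH with h | ⟨⟨e⟩⟩
  · exact h.nat
  intro P hP φ hφ hfix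
  have hcH : Nat.card H = 60 := by rw [Nat.card_congr e.toEquiv, card_alt5]
  have hq : Fintype.card F % 8 = 3 ∨ Fintype.card F % 8 = 5 := by
    refine mod_eight hF fun h8 => ?_
    rw [← H.card_mul_index] at h8
    have : 8 ∣ Nat.card H := (Nat.Coprime.dvd_of_dvd_mul_right (by
      have : (8 : ℕ) = 2 ^ 3 := by norm_num
      rw [this]
      exact (Nat.coprime_two_left.2 hodd).pow_left 3) h8)
    rw [hcH] at this
    norm_num at this
  obtain ⟨f, hf, hr, hV⟩ := exists_hom P hP e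
  have hPcard := H95.PSLTwo.card_syl hq P
  have hN := H95.PSLTwo.card_normalizer hq P
  have hbN : f ab ∈ normalizer ((P : Subgroup P2) : Set P2) := by
    have h1 : ∀ x ∈ (P : Subgroup P2), f ab * x * (f ab)⁻¹ ∈ (P : Subgroup P2) := by
      intro x hx
      rw [← hV] at hx ⊢
      obtain ⟨y, hy, rfl⟩ := hx
      exact ⟨ab * y * ab⁻¹, ab_conj y hy, by simp⟩
    rw [mem_normalizer_iff]
    intro x
    refine ⟨h1 x, fun hx => ?_⟩
    have h2 := h1 _ (h1 _ hx)
    have h3 : f ab * f ab * f ab = 1 := (vb_alt.map f hf).b3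
    have h5 : f ab * (f ab * (f ab * x * (f ab)⁻¹) * (f ab)⁻¹) * (f ab)⁻¹ =
        (f ab * f ab * f ab) * x * (f ab * f ab * f ab)⁻¹ := by group
    rw [h5, h3, one_mul, inv_one, mul_one] at h2
    exact h2
  have hC : centralizer ((P : Subgroup P2) : Set P2) ≤ P := by
    have hPC : (P : Subgroup P2) ≤ centralizer ((P : Subgroup P2) : Set P2) := by
      rw [← hV]
      rintro _ ⟨x, hx, rfl⟩
      rw [mem_centralizer_iff]
      rintro _ ⟨y, hy, rfl⟩
      rw [← map_mul, ← map_mul, aV_comm y hy x hx]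
    have hCN : centralizer ((P : Subgroup P2) : Set P2) ≤ normalizer ((P : Subgroup P2) : Set P2) :=
      centralizer_le_normalizer _
    have hd1 : Nat.card (centralizer ((P : Subgroup P2) : Set P2)) ∣ 12 := by
      rw [← hN]; exact card_dvd_of_le hCN
    have hd2 : 4 ∣ Nat.card (centralizer ((P : Subgroup P2) : Set P2)) := by
      rw [← hPcard]; exact card_dvd_of_le hPC
    have hne : Nat.card (centralizer ((P : Subgroup P2) : Set P2)) ≠ 12 := by
      intro h12
      have h1 : centralizer ((P : Subgroup P2) : Set P2) = normalizer ((P : Subgroup P2) : Set P2) :=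
        Subgroup.eq_of_le_of_card_ge hCN (by rw [h12, hN])
      rw [← h1, mem_centralizer_iff] at hbN
      have hav : f av ∈ ((P : Subgroup P2) : Set P2) := by
        show f av ∈ (P : Subgroup P2)
        rw [← hV]
        exact ⟨av, Or.inr (Or.inl rfl), rfl⟩
      have h2 := hbN _ hav
      rw [← map_mul, ← map_mul] at h2
      exact absurd (hf h2) (by decide)
    have hc4 : Nat.card (centralizer ((P : Subgroup P2) : Set P2)) = 4 := by
      obtain ⟨k, hk⟩ := hd2
      rw [hk] at hd1 hne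
      have : k ∣ 3 := Nat.dvd_of_mul_dvd_mul_left (by norm_num : 0 < 4) hd1
      rcases (Nat.dvd_prime Nat.prime_three).1 this with rfl | rfl
      · exact hk
      · norm_num at hne
    exact (Subgroup.eq_of_le_of_card_ge hPC (by rw [hc4, hPcard])).ge
  refine ⟨H, ?_, le_rfl, fun h hh n hn => H.mul_mem (H.mul_mem hh hn) (H.inv_mem hh), ?_⟩
  · intro hb
    rw [hb, card_bot] at hcH
    norm_num at hcH
  have hfixf : ∀ x, φ (f x) = f x := by
    refine fix_alt hf hφ ?_ ?_ ?_
    · intro x hx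
      refine hfix _ ?_
      show f x ∈ (P : Subgroup P2)
      rw [← hV]
      exact ⟨x, hx, rfl⟩
    · exact fix_norm P.isPGroup' hC hφ hfix hbN
    · intro t2 t3 k2 k3
      exact three_psl h20 (vb_alt.map f hf) (tc_alt.map f hf) k2 k3
  rw [← hr]
  ext x
  constructor
  · rintro ⟨_, ⟨y, rfl⟩, rfl⟩
    exact ⟨y, (hfixf y).symm⟩
  · rintro ⟨y, rfl⟩
    exact ⟨f y, ⟨y, rfl⟩, hfixf y⟩

end Cfsg.Agent.H728.RV
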